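import Cfsg.Agent.PermOrth.Count
import Cfsg.Agent.Forms.PermSymplectic
import Cfsg.Agent.Forms4.OrthogonalOrders
import Cfsg.Agent.StdBasis.Basic

/-!
# The symmetric group of degree `4k + 4` inside the orthogonal group of dimension `4k + 2` over `F₂`
-/

set_option autoImplicit false

namespace CfsgLib.PermOrth

open Module QuadraticMap Matrix CfsgLib.StdForms CfsgLib.Forms

/-- Half the weight, modulo two. -/
def half {n : ℕ} (x : Fin n → ZMod 2) : ZMod 2 := ((wt x / 2 : ℕ) : ZMod 2)

theorem cast_wt {n : ℕ} (x : Fin n → ZMod 2) : (wt x : ZMod 2) = ∑ i, x i := by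
  rw [wt, Nat.cast_sum]
  exact Finset.sum_congr rfl fun i _ => ZMod.natCast_zmod_val (x i)

theorem even_wt {n : ℕ} {x : Fin n → ZMod 2} (hx : ∑ i, x i = 0) : Even (wt x) := by
  rw [← ZMod.natCast_eq_zero_iff_even, cast_wt, hx]

theorem wt_add {n : ℕ} (x y : Fin n → ZMod 2) :
    wt (x + y) + 2 * ∑ i, (x i).val * (y i).val = wt x + wt y := by
  simp only [wt, Finset.mul_sum, ← Finset.sum_add_distrib, Pi.add_apply]
  exact Finset.sum_congr rfl fun i _ =>
    (show ∀ a b : ZMod 2, (a + b).val + 2 * (a.val * b.val) = a.val + b.val by decide) (x i) (y i)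

theorem half_add {n : ℕ} {x y : Fin n → ZMod 2} (hx : ∑ i, x i = 0) (hy : ∑ i, y i = 0) :
    half (x + y) = half x + half y + ∑ i, x i * y i := by
  obtain ⟨a, ha⟩ := even_wt hx
  obtain ⟨b, hb⟩ := even_wt hy
  obtain ⟨c, hc⟩ := even_wt (x := x + y) (by simp [Finset.sum_add_distrib, hx, hy])
  have h := wt_add x y
  have hsum : ((∑ i, (x i).val * (y i).val : ℕ) : ZMod 2) = ∑ i, x i * y i := by
    rw [Nat.cast_sum]
    exact Finset.sum_congr rfl fun i _ => by rw [Nat.cast_mul, ZMod.natCast_zmod_val, ZMod.natCast_zmod_val]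
  have h' : c + ∑ i, (x i).val * (y i).val = a + b := by omega
  have h'' := congrArg (fun t : ℕ => (t : ZMod 2)) h'
  simp only [Nat.cast_add, hsum] at h''
  simp only [half, ha, hb, hc, show ∀ t : ℕ, (t + t) / 2 = t from fun t => by omega]
  linear_combination h'' - CharTwo.add_self_eq_zero (∑ i, x i * y i)

theorem half_zero {n : ℕ} : half (0 : Fin n → ZMod 2) = 0 := by simp [half, wt]

theorem wt_add_one {n : ℕ} (x : Fin n → ZMod 2) : wt (fun i => x i + 1) + wt x = n := by
  simp only [wt, ← Finset.sum_add_distrib,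
    (show ∀ a : ZMod 2, (a + 1).val + a.val = 1 by decide)]
  simp

theorem half_add_one {n : ℕ} (hn : 4 ∣ n) {x : Fin n → ZMod 2} (hx : ∑ i, x i = 0) :
    half (fun i => x i + 1) = half x := by
  obtain ⟨a, ha⟩ := even_wt hx
  obtain ⟨c, rfl⟩ := hn
  have h := wt_add_one x
  have h' : wt (fun i => x i + 1) / 2 + a = 2 * c := by omega
  have h'' := congrArg (fun t : ℕ => (t : ZMod 2)) h'
  simp only [Nat.cast_add, Nat.cast_mul, show ((2 : ℕ) : ZMod 2) = 0 from rfl, zero_mul] at h''
  rw [half, half, ha, show (a + a) / 2 = a by omega]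
  linear_combination h'' - CharTwo.add_self_eq_zero (a : ZMod 2)

theorem wt_comp {n : ℕ} (σ : Equiv.Perm (Fin n)) (x : Fin n → ZMod 2) :
    wt (fun i => x (σ i)) = wt x :=
  Equiv.sum_comp σ (fun i => (x i).val)

variable {N : ℕ}

theorem mem_evenAvoid {x : Fin (N + 1) → ZMod 2} :
    x ∈ evenAvoid N ↔ ∑ k, x k = 0 ∧ x (Fin.last N) = 0 := Iff.rfl

/-- The form "half the size, modulo two" on even subsets avoiding the last point. -/
def halfQ (N : ℕ) : QuadraticForm (ZMod 2) (evenAvoid N) :=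
  QuadraticMap.ofPolar (fun x => half (x : Fin (N + 1) → ZMod 2))
    (fun a x => by
      rcases (show ∀ a : ZMod 2, a = 0 ∨ a = 1 by decide) a with rfl | rfl
      · simp [half_zero]
      · simp)
    (fun x x' y => by
      simp only [polar, Submodule.coe_add]
      have hx := x.2.1
      have hx' := x'.2.1
      have hy := y.2.1
      rw [half_add (by simp [Finset.sum_add_distrib, hx, hx']) hy, half_add hx hy, half_add hx' hy]
      simp only [Pi.add_apply, add_mul, Finset.sum_add_distrib]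
      ring)
    (fun a x y => by
      rcases (show ∀ a : ZMod 2, a = 0 ∨ a = 1 by decide) a with rfl | rfl
      · simp [polar, half_zero]
      · simp)

theorem halfQ_apply (x : evenAvoid N) : halfQ N x = half (x : Fin (N + 1) → ZMod 2) := rfl

theorem polar_halfQ (x y : evenAvoid N) :
    polar (⇑(halfQ N)) x y = ∑ i, (x : Fin (N + 1) → ZMod 2) i * (y : Fin (N + 1) → ZMod 2) i := by
  simp only [polar, halfQ_apply, Submodule.coe_add, half_add x.2.1 y.2.1]
  ring

theorem pair_mem {i j : Fin (N + 1)} (hi : i ≠ Fin.last N) (hj : j ≠ Fin.last N) :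
    (fun k => (if k = i then (1 : ZMod 2) else 0) + if k = j then 1 else 0) ∈ evenAvoid N :=
  ⟨by simp [Finset.sum_add_distrib, show (1 : ZMod 2) + 1 = 0 from rfl],
    by simp [Ne.symm hi, Ne.symm hj]⟩

theorem halfQ_nondegenerate (hN : Odd N) : (polarBilin (halfQ N)).Nondegenerate := by
  refine nondegenerate_of_sep _ fun x hx => Subtype.ext (funext fun i => ?_)
  by_cases hi : i = Fin.last N
  · rw [hi]; exact x.2.2
  have hall : ∀ k, k ≠ Fin.last N → x.1 k = x.1 i := fun k hk => by
    by_cases hki : k = i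
    · rw [hki]
    · have h := hx ⟨_, pair_mem hk hi⟩
      rw [polar_halfQ] at h
      simp [mul_add, Finset.sum_add_distrib] at h
      exact (eq_neg_of_add_eq_zero_left h).trans (CharTwo.neg_eq _)
  have hsum := x.2.1
  rw [Fin.sum_univ_castSucc, x.2.2, add_zero,
    Finset.sum_congr rfl (fun k _ => hall k.castSucc (Fin.castSucc_lt_last k).ne),
    Finset.sum_const, Finset.card_univ, Fintype.card_fin, nsmul_eq_mul,
    (ZMod.natCast_eq_one_iff_odd (n := N)).2 hN, one_mul] at hsum
  exact hsum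

theorem card_zeros (N : ℕ) : Nat.card {x : evenAvoid N // halfQ N x = 0} = cnt N 0 := by
  refine Nat.card_congr
    { toFun := fun x => ⟨fun i => x.1.1 i.castSucc, ?_⟩
      invFun := fun y => ⟨⟨Fin.snoc y.1 0, ?_⟩, ?_⟩
      left_inv := fun x => by
        refine Subtype.ext (Subtype.ext (funext fun i => ?_))
        induction i using Fin.lastCases with
        | last => simp [x.1.2.2]
        | cast i => simp
      right_inv := fun y => by ext i; simp }
  · have hw : wt (fun i => x.1.1 i.castSucc) = wt x.1.1 := by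
      rw [wt, wt, Fin.sum_univ_castSucc, x.1.2.2, ZMod.val_zero, add_zero]
    obtain ⟨a, ha⟩ := even_wt x.1.2.1
    have h := x.2
    rw [halfQ_apply, half, ZMod.natCast_eq_zero_iff_even, ha, Nat.even_iff] at h
    rw [hw, ha]
    omega
  · refine ⟨?_, by simp⟩
    rw [Fin.sum_univ_castSucc]
    simp only [Fin.snoc_castSucc, Fin.snoc_last, add_zero]
    rw [← cast_wt, ZMod.natCast_eq_zero_iff_even, Nat.even_iff]
    have := y.2
    omega
  · have hw : wt (Fin.snoc y.1 (0 : ZMod 2) : Fin (N + 1) → ZMod 2) = wt y.1 := by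
      rw [wt, wt, Fin.sum_univ_castSucc]
      simp
    show half (Fin.snoc y.1 (0 : ZMod 2) : Fin (N + 1) → ZMod 2) = 0
    rw [half, hw, ZMod.natCast_eq_zero_iff_even, Nat.even_iff]
    have := y.2
    omega

/-- Normalisation at the last point. -/
def norm0 (x : Fin (N + 1) → ZMod 2) : Fin (N + 1) → ZMod 2 := fun k => x k + x (Fin.last N)

theorem norm0_mem (hN : Odd N) {x : Fin (N + 1) → ZMod 2} (hx : ∑ k, x k = 0) :
    norm0 x ∈ evenAvoid N := by
  refine ⟨?_, CharTwo.add_self_eq_zero _⟩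
  have h : ((N + 1 : ℕ) : ZMod 2) = 0 := by
    rw [ZMod.natCast_eq_zero_iff_even]
    exact hN.add_one
  push_cast at h
  simp [norm0, Finset.sum_add_distrib, hx, nsmul_eq_mul, h]

theorem half_norm0 (hN : 4 ∣ N + 1) {x : Fin (N + 1) → ZMod 2} (hx : ∑ k, x k = 0) :
    half (norm0 x) = half x := by
  rcases (show ∀ a : ZMod 2, a = 0 ∨ a = 1 by decide) (x (Fin.last N)) with h | h
  · rw [show norm0 x = x from funext fun k => by simp [norm0, h]]
  · rw [show norm0 x = fun k => x k + 1 from funext fun k => by simp [norm0, h]]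
    exact half_add_one hN hx

theorem comp_sum (σ : Equiv.Perm (Fin (N + 1))) {x : Fin (N + 1) → ZMod 2} (hx : ∑ k, x k = 0) :
    ∑ k, x (σ k) = 0 := (Equiv.sum_comp σ x).trans hx

/-- The action of a permutation. -/
def act (hN : Odd N) (σ : Equiv.Perm (Fin (N + 1))) : evenAvoid N →ₗ[ZMod 2] evenAvoid N where
  toFun x := ⟨norm0 fun k => x.1 (σ⁻¹ k), norm0_mem hN (comp_sum σ⁻¹ x.2.1)⟩
  map_add' x y := Subtype.ext (funext fun k => by simp [norm0]; ring)
  map_smul' c x := Subtype.ext (funext fun k => by simp [norm0, mul_add])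

theorem act_apply (hN : Odd N) (σ : Equiv.Perm (Fin (N + 1))) (x : evenAvoid N) (k : Fin (N + 1)) :
    (act hN σ x).1 k = x.1 (σ⁻¹ k) + x.1 (σ⁻¹ (Fin.last N)) := rfl

theorem act_mul (hN : Odd N) (σ τ : Equiv.Perm (Fin (N + 1))) (x : evenAvoid N) :
    act hN (σ * τ) x = act hN σ (act hN τ x) := Subtype.ext (funext fun k => by
  simp only [act_apply, _root_.mul_inv_rev, Equiv.Perm.mul_apply]
  linear_combination -CharTwo.add_self_eq_zero (x.1 (τ⁻¹ (Fin.last _))))

theorem act_one (hN : Odd N) (x : evenAvoid N) : act hN 1 x = x :=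
  Subtype.ext (funext fun k => by simp [act_apply, x.2.2])

theorem half_act (hN : Odd N) (h4 : 4 ∣ N + 1) (σ : Equiv.Perm (Fin (N + 1))) (x : evenAvoid N) :
    halfQ N (act hN σ x) = halfQ N x := by
  rw [halfQ_apply, halfQ_apply]
  show half (norm0 fun k => x.1 (σ⁻¹ k)) = half x.1
  rw [half_norm0 h4 (comp_sum σ⁻¹ x.2.1), half, half, wt_comp]

theorem eq_one_of_act_eq (hN : Odd N) (h5 : 5 ≤ N) (σ : Equiv.Perm (Fin (N + 1)))
    (hfix : ∀ x, act hN σ x = x) : σ = 1 := by
  classical
  have hpair : ∀ i j, i ≠ Fin.last N → j ≠ Fin.last N → i ≠ j → σ i = i ∨ σ i = j := by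
    intro i j hi hj hij
    obtain ⟨x, hx⟩ : ∃ x : evenAvoid N, ∀ k, x.1 k = (if k = i then 1 else 0) + (if k = j then 1 else 0) :=
      ⟨⟨_, pair_mem hi hj⟩, fun k => rfl⟩
    have h : ∀ k, x.1 (σ⁻¹ k) + x.1 (σ⁻¹ (Fin.last _)) = x.1 k := fun k => by
      rw [← act_apply hN, hfix]
    have hsupp : ∀ k, x.1 k ≠ 0 → k = i ∨ k = j := by
      intro k hk
      rw [hx] at hk
      by_contra hne
      push Not at hne
      simp [hne.1, hne.2] at hk
    have hc : x.1 (σ⁻¹ (Fin.last _)) = 0 := by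
      by_contra hne
      have hsub : Finset.univ ⊆ ({i, j} ∪ {σ i, σ j} : Finset (Fin (N + 1))) := fun k _ => by
        by_cases hk : x.1 k = 0
        · have h2 := h k
          rw [hk] at h2
          have hne' : x.1 (σ⁻¹ k) ≠ 0 := fun h0 => hne (by rw [h0, zero_add] at h2; exact h2)
          refine Finset.mem_union_right _ ?_
          rcases hsupp _ hne' with h1 | h1
          · simp [← h1]
          · simp [← h1]
        · refine Finset.mem_union_left _ ?_
          simpa using hsupp _ hk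
      have hcard := (Finset.card_le_card hsub).trans
        ((Finset.card_union_le _ _).trans (Nat.add_le_add Finset.card_le_two Finset.card_le_two))
      rw [Finset.card_univ, Fintype.card_fin] at hcard
      omega
    have h2 := h (σ i)
    rw [hc, add_zero, Equiv.Perm.inv_def, Equiv.symm_apply_apply, hx i] at h2
    simp [hij] at h2
    exact hsupp _ (by rw [← h2]; exact one_ne_zero)
  have hmain : ∀ i, i ≠ Fin.last N → σ i = i := by
    intro i hi
    obtain ⟨j, k, hj, hk, hij, hik, hjk⟩ : ∃ j k, j ≠ Fin.last N ∧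
        k ≠ Fin.last N ∧ i ≠ j ∧ i ≠ k ∧ j ≠ k := by
      have hc : 2 ≤ (Finset.univ \ {i, Fin.last N}).card := by
        rw [Finset.card_sdiff, Finset.card_univ, Fintype.card_fin, Finset.inter_univ]
        have := Finset.card_le_two (a := i) (b := Fin.last N)
        omega
      obtain ⟨j, hj, k, hk, hjk⟩ := Finset.one_lt_card.1 hc
      simp at hj hk
      exact ⟨j, k, hj.2, hk.2, Ne.symm hj.1, Ne.symm hk.1, hjk⟩
    rcases hpair i j hi hj hij with h | h
    · exact h
    rcases hpair i k hi hk hik with h' | h'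
    · exact h'
    · exact absurd (h.symm.trans h') hjk
  refine Equiv.ext fun i => ?_
  by_cases hi : i = Fin.last N
  · by_contra hne
    exact hne (σ.injective (hmain _ fun h => hne (by rw [h, hi]; rfl)))
  · exact hmain i hi

/-- An isometry with a coordinate space gives an embedding of the symmetric group. -/
theorem exists_embedding {ι : Type} [Fintype ι] [DecidableEq ι] {q : (ι → ZMod 2) → ZMod 2}
    (hN : Odd N) (h4 : 4 ∣ N + 1) (h5 : 5 ≤ N) (L : evenAvoid N ≃ₗ[ZMod 2] (ι → ZMod 2))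
    (hL : ∀ x, q (L x) = halfQ N x) :
    ∃ φ : Equiv.Perm (Fin (N + 1)) →* ↥(Cfsg.isometryGroup (ZMod 2) q), Function.Injective φ := by
  let M : Equiv.Perm (Fin (N + 1)) → Matrix ι ι (ZMod 2) := fun σ =>
    LinearMap.toMatrix' (L.toLinearMap.comp ((act hN σ).comp L.symm.toLinearMap))
  have hM : ∀ σ v, M σ *ᵥ v = L (act hN σ (L.symm v)) := fun σ v => by
    simp only [M, LinearMap.toMatrix'_mulVec, LinearMap.comp_apply, LinearEquiv.coe_coe]
  let Mh : Equiv.Perm (Fin (N + 1)) →* Matrix ι ι (ZMod 2) :=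
    { toFun := M
      map_one' := Matrix.ext_iff_mulVec.2 fun v => by
        rw [hM, act_one, LinearEquiv.apply_symm_apply, one_mulVec]
      map_mul' := fun σ τ => Matrix.ext_iff_mulVec.2 fun v => by
        rw [← mulVec_mulVec, hM, hM, hM, LinearEquiv.symm_apply_apply, act_mul] }
  let φ : Equiv.Perm (Fin (N + 1)) →* ↥(Cfsg.isometryGroup (ZMod 2) q) :=
    Mh.toHomUnits.codRestrict _ fun σ u _ => by
      show q (M σ *ᵥ u) = q u
      rw [hM, hL, half_act hN h4, ← hL, LinearEquiv.apply_symm_apply]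
  refine ⟨φ, (injective_iff_map_eq_one φ).2 fun σ hσ => eq_one_of_act_eq hN h5 σ fun x => ?_⟩
  have h : M σ = 1 := congrArg (fun g => (g.1.1 : Matrix ι ι (ZMod 2))) hσ
  have h' := hM σ (L x)
  rw [h, one_mulVec, LinearEquiv.symm_apply_apply] at h'
  exact (L.injective h').symm

theorem exists_coords {V : Type*} [AddCommGroup V] [Module (ZMod 2) V] [FiniteDimensional (ZMod 2) V]
    (Q : QuadraticForm (ZMod 2) V) (hQ : (polarBilin Q).Nondegenerate) {m : ℕ} (hm : 1 ≤ m)
    (hV : finrank (ZMod 2) V = 2 * m) :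
    (∃ L : V ≃ₗ[ZMod 2] (Fin m ⊕ Fin m → ZMod 2), ∀ x, Cfsg.quadFormPlus m (ZMod 2) (L x) = Q x) ∨
    ∃ L : V ≃ₗ[ZMod 2] ((Fin (m - 1) ⊕ Fin (m - 1)) ⊕ Fin 2 → ZMod 2),
      ∀ x, Cfsg.quadFormMinus (m - 1) (ZMod 2) 1 1 (L x) = Q x := by
  obtain ⟨k, d, e, f, t, hkd, h, hd2, hnorm⟩ := CfsgLib.StdBasis.exists_decomp Q hQ hV
  have hsum : ∀ {ι : Type} [Fintype ι] (b : ι → V) (c : ι → ZMod 2),
      (∀ i j, i ≠ j → polar (⇑Q) (b i) (b j) = 0) → ∀ s : Finset ι,
      Q (∑ i ∈ s, c i • b i) = ∑ i ∈ s, c i * c i * Q (b i) := by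
    intro ι _ b c hb s
    classical
    induction s using Finset.induction with
    | empty => simp
    | @insert a s ha ih =>
      have hz : polar (⇑Q) (c a • b a) (∑ i ∈ s, c i • b i) = 0 := by
        rw [CfsgLib.StdBasis.polar_sum_right]
        refine Finset.sum_eq_zero fun i hi => ?_
        rw [polar_smul_left, polar_smul_right, hb a i (fun h => ha (h ▸ hi)), smul_zero, smul_zero]
      rw [Finset.sum_insert ha, Finset.sum_insert ha, QuadraticMap.map_add (⇑Q), hz, add_zero,
        QuadraticMap.map_smul, ih, smul_eq_mul]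
  have hQe : ∀ c : Fin k → ZMod 2, Q (∑ i, c i • e i) = 0 := fun c => by
    rw [hsum e c (fun i j _ => h.ee i j)]; simp [h.qe]
  have hQf : ∀ c : Fin k → ZMod 2, Q (∑ i, c i • f i) = 0 := fun c => by
    rw [hsum f c (fun i j _ => h.ff i j)]; simp [h.qf]
  have hpef : ∀ a c : Fin k → ZMod 2,
      polar (⇑Q) (∑ i, a i • e i) (∑ j, c j • f j) = ∑ i, a i * c i := fun a c => by
    rw [CfsgLib.StdBasis.polar_sum_right]
    refine Finset.sum_congr rfl fun j _ => ?_
    rw [polar_comm, CfsgLib.StdBasis.polar_sum_right]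
    simp [polar_smul_left, polar_smul_right, polar_comm (⇑Q) (f j), h.ef, mul_comm]
  rcases (show d = 0 ∨ d = 2 by omega) with rfl | rfl
  · obtain rfl : k = m := by omega
    left
    have hli : LinearIndependent (ZMod 2) (Sum.elim e f) := h.li.comp _ Sum.inl_injective
    haveI : Nonempty (Fin k ⊕ Fin k) := ⟨Sum.inl ⟨0, hm⟩⟩
    let b := basisOfLinearIndependentOfCardEqFinrank hli (by simp; omega)
    refine ⟨b.equivFun, fun x => ?_⟩
    have hx := b.sum_equivFun x
    conv_rhs => rw [← hx]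
    simp only [b, coe_basisOfLinearIndependentOfCardEqFinrank, Fintype.sum_sum_type, Sum.elim_inl,
      Sum.elim_inr]
    rw [QuadraticMap.map_add (⇑Q), hQe, hQf, hpef, zero_add, zero_add]
    rfl
  · obtain rfl : k = m - 1 := by omega
    right
    obtain ⟨h1, h2⟩ := hnorm rfl
    have hQt1 : Q (t 1) = 1 := by
      have hne : Q (t 1) ≠ 0 := fun h0 => by
        have h0' := congrFun (h.tail ![0, 1] (by simpa [Fin.sum_univ_two] using h0)) 1
        simp at h0'
      exact (show ∀ a : ZMod 2, a ≠ 0 → a = 1 by decide) _ hne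
    let b := basisOfLinearIndependentOfCardEqFinrank h.li (by simp; omega)
    refine ⟨b.equivFun, fun x => ?_⟩
    have hx := b.sum_equivFun x
    conv_rhs => rw [← hx]
    simp only [b, coe_basisOfLinearIndependentOfCardEqFinrank, Fintype.sum_sum_type, Sum.elim_inl,
      Sum.elim_inr, Fin.sum_univ_two]
    simp only [QuadraticMap.map_add (⇑Q), polar_add_left, hQe, hQf, hpef]
    have ht : ∀ (c : Fin (m - 1) → ZMod 2) (l : Fin 2), polar (⇑Q) (∑ i, c i • e i) (t l) = 0 ∧
        polar (⇑Q) (∑ i, c i • f i) (t l) = 0 := fun c l => by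
      constructor <;> rw [polar_comm, CfsgLib.StdBasis.polar_sum_right] <;>
        refine Finset.sum_eq_zero fun i _ => ?_ <;>
        simp [polar_smul_right, polar_comm (⇑Q) (t l), h.te, h.tf]
    simp only [QuadraticMap.map_smul, polar_add_right, polar_smul_right, polar_smul_left,
      (ht _ _).1, (ht _ _).2, hQt1, smul_eq_mul, mul_zero, add_zero, zero_add, mul_one]
    rw [show Q (t 0) = 1 from h1, show polar (⇑Q) (t 0) (t 1) = 1 from h2]
    simp only [Cfsg.quadFormMinus, mul_one, one_mul]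
    ring

/-- `S_{4k+4}` embeds in `O^±_{4k+2}(2)`, with sign `(-1)^(k+1)`. -/
theorem exists_perm_orth (k : ℕ) (hk : 1 ≤ k) :
    (Odd k → ∃ φ : Equiv.Perm (Fin (4 * k + 4)) →*
      ↥(Cfsg.isometryGroup (ZMod 2) (Cfsg.quadFormPlus (2 * k + 1) (ZMod 2))), Function.Injective φ) ∧
    (Even k → ∃ φ : Equiv.Perm (Fin (4 * k + 4)) →*
      ↥(Cfsg.isometryGroup (ZMod 2) (Cfsg.quadFormMinus (2 * k) (ZMod 2) 1 1)), Function.Injective φ) := by
  have hodd : Odd (4 * k + 3) := ⟨2 * k + 1, by ring⟩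
  have h4 : 4 ∣ 4 * k + 3 + 1 := ⟨k + 1, by ring⟩
  have hdim : finrank (ZMod 2) (evenAvoid (4 * k + 3)) = 2 * (2 * k + 1) := by
    rw [show 4 * k + 3 = (4 * k + 2) + 1 from rfl, finrank_evenAvoid]
    ring
  have hcnt := (cnt_four_mul_add_three k).1
  rw [show (-4 : ℤ) = -1 * 2 ^ 2 by norm_num, mul_pow, ← pow_mul] at hcnt
  rcases exists_coords (halfQ (4 * k + 3)) (halfQ_nondegenerate hodd) (by omega) hdim with
    ⟨L, hL⟩ | ⟨L, hL⟩
  · have hko : Odd k := by
      by_contra hne
      have hev : Even k := Nat.not_odd_iff_even.1 hne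
      have hcount : Nat.card {v : Fin (2 * k + 1) ⊕ Fin (2 * k + 1) → ZMod 2 //
          Cfsg.quadFormPlus (2 * k + 1) (ZMod 2) v = 0} = cnt (4 * k + 3) 0 := by
        rw [← card_zeros]
        exact (Nat.card_congr (L.toEquiv.subtypeEquiv fun x => by rw [← hL]; rfl)).symm
      rw [CfsgLib.Forms4.card_zero_quadFormPlus (ZMod.card 2) _ (by omega),
        show 2 * (2 * k + 1) - 1 = 4 * k + 1 by omega, Nat.add_sub_cancel, pow_succ (2 : ℕ) (2 * k),
        (show ∀ a b : ℕ, a + b * 2 - b = a + b from fun a b => by omega) (2 ^ (4 * k + 1)) (2 ^ (2 * k))]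
        at hcount
      rw [← hcount, hev.neg_one_pow] at hcnt
      push_cast at hcnt
      have : (0 : ℤ) < 2 ^ (2 * k) := by positivity
      linarith
    exact ⟨fun _ => exists_embedding hodd h4 (by omega) L hL,
      fun hev => absurd hev (Nat.not_even_iff_odd.2 hko)⟩
  · have hke : Even k := by
      by_contra hne
      have hod : Odd k := Nat.not_even_iff_odd.1 hne
      have hcount : Nat.card {v : (Fin (2 * k + 1 - 1) ⊕ Fin (2 * k + 1 - 1)) ⊕ Fin 2 → ZMod 2 //
          Cfsg.quadFormMinus (2 * k + 1 - 1) (ZMod 2) 1 1 v = 0} = cnt (4 * k + 3) 0 := by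
        rw [← card_zeros]
        exact (Nat.card_congr (L.toEquiv.subtypeEquiv fun x => by rw [← hL]; rfl)).symm
      rw [CfsgLib.Forms4.card_zero_quadFormMinus (ZMod.card 2) _ (by omega) 1 1 (by decide),
        show 2 * (2 * k + 1) - 1 = 4 * k + 1 by omega, Nat.add_sub_cancel, pow_succ (2 : ℕ) (2 * k)]
        at hcount
      have hle : 2 ^ (2 * k) ≤ 2 ^ (4 * k + 1) := Nat.pow_le_pow_right (by norm_num) (by omega)
      have hcount' : (cnt (4 * k + 3) 0 : ℤ) = 2 ^ (4 * k + 1) - 2 ^ (2 * k) := by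
        rw [← hcount, (show ∀ a b : ℕ, a + b - b * 2 = a - b from fun a b => by omega)
          (2 ^ (4 * k + 1)) (2 ^ (2 * k)), Nat.cast_sub hle]
        push_cast
        rfl
      rw [hcount', hod.neg_one_pow] at hcnt
      have : (0 : ℤ) < 2 ^ (2 * k) := by positivity
      linarith
    exact ⟨fun hod => absurd hke (Nat.not_even_iff_odd.2 hod),
      fun _ => exists_embedding hodd h4 (by omega) L hL⟩

end CfsgLib.PermOrth
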