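import Mathlib

/-!
# Binary words counted by weight modulo four
-/

set_option autoImplicit false

namespace CfsgLib.PermOrth

/-- The Hamming weight. -/
def wt {n : ℕ} (x : Fin n → ZMod 2) : ℕ := ∑ i, (x i).val

/-- Words of length `n` with weight congruent to `r` modulo four. -/
noncomputable def cnt (n r : ℕ) : ℕ := Nat.card {x : Fin n → ZMod 2 // wt x % 4 = r}

theorem wt_cons {n : ℕ} (a : ZMod 2) (y : Fin n → ZMod 2) : wt (Fin.cons a y) = a.val + wt y := by
  rw [wt, Fin.sum_univ_succ]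
  simp [wt]

theorem cnt_succ (n r : ℕ) (hr : r < 4) : cnt (n + 1) r = cnt n r + cnt n ((r + 3) % 4) := by
  classical
  have e : {x : Fin (n + 1) → ZMod 2 // wt x % 4 = r} ≃
      {y : Fin n → ZMod 2 // wt y % 4 = r} ⊕ {y : Fin n → ZMod 2 // wt y % 4 = (r + 3) % 4} :=
    { toFun := fun x => if h : x.1 0 = 0 then Sum.inl ⟨Fin.tail x.1, by
          have hx := x.2
          rw [← Fin.cons_self_tail x.1, wt_cons, h, ZMod.val_zero, zero_add] at hx
          exact hx⟩
        else Sum.inr ⟨Fin.tail x.1, by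
          have hx := x.2
          have h1 : x.1 0 = 1 := (show ∀ a : ZMod 2, a ≠ 0 → a = 1 by decide) _ h
          rw [← Fin.cons_self_tail x.1, wt_cons, h1, show (1 : ZMod 2).val = 1 from rfl] at hx
          omega⟩
      invFun := Sum.elim (fun y => ⟨Fin.cons 0 y.1, by
          rw [wt_cons, ZMod.val_zero, zero_add]; exact y.2⟩)
        fun y => ⟨Fin.cons 1 y.1, by
          rw [wt_cons, show (1 : ZMod 2).val = 1 from rfl]
          have := y.2
          omega⟩
      left_inv := fun x => by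
        by_cases h : x.1 0 = 0
        · simp only [dif_pos h, Sum.elim_inl]
          exact Subtype.ext (by conv_rhs => rw [← Fin.cons_self_tail x.1, h])
        · simp only [dif_neg h, Sum.elim_inr]
          have h1 : x.1 0 = 1 := (show ∀ a : ZMod 2, a ≠ 0 → a = 1 by decide) _ h
          exact Subtype.ext (by conv_rhs => rw [← Fin.cons_self_tail x.1, h1])
      right_inv := fun y => by rcases y with y | y <;> simp }
  rw [cnt, Nat.card_congr e, Nat.card_sum]
  rfl

theorem cnt_zero (r : ℕ) : cnt 0 r = if r = 0 then 1 else 0 := by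
  rw [cnt, Nat.card_eq_fintype_card, Fintype.card_subtype]
  by_cases h : r = 0 <;> simp [wt, h, eq_comm]

theorem cnt_four_mul_add_three (j : ℕ) :
    (cnt (4 * j + 3) 0 : ℤ) = 2 ^ (4 * j + 1) - (-4) ^ j ∧
    (cnt (4 * j + 3) 1 : ℤ) = 2 ^ (4 * j + 1) + (-4) ^ j ∧
    (cnt (4 * j + 3) 2 : ℤ) = 2 ^ (4 * j + 1) + (-4) ^ j ∧
    (cnt (4 * j + 3) 3 : ℤ) = 2 ^ (4 * j + 1) - (-4) ^ j := by
  induction j with
  | zero => simp [cnt_succ, cnt_zero]
  | succ j ih =>
    obtain ⟨h0, h1, h2, h3⟩ := ih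
    rw [show 4 * (j + 1) + 3 = (4 * j + 3) + 1 + 1 + 1 + 1 by omega]
    generalize 4 * j + 3 = N at h0 h1 h2 h3 ⊢
    simp only [cnt_succ _ _ (show (0 : ℕ) < 4 by norm_num), cnt_succ _ _ (show (1 : ℕ) < 4 by norm_num),
      cnt_succ _ _ (show (2 : ℕ) < 4 by norm_num), cnt_succ _ _ (show (3 : ℕ) < 4 by norm_num),
      Nat.reduceAdd, Nat.reduceMod]
    push_cast
    rw [h0, h1, h2, h3, show 4 * (j + 1) + 1 = (4 * j + 1) + 4 by omega, pow_add, pow_succ]
    refine ⟨?_, ?_, ?_, ?_⟩ <;> ring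

end CfsgLib.PermOrth
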